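import Groth.Agent.EtConsLib.Closure
import Groth.Agent.S13617
import Groth.Agent.ARSysLib.Ext

/-!
Being adic up to translation is tested on stalks, uniformly in the point.
-/

set_option backward.isDefEq.respectTransparency false
set_option backward.isDefEq.respectTransparency.types false
set_option autoImplicit false
set_option maxHeartbeats 1000000

universe u

open CategoryTheory CategoryTheory.Limits AlgebraicGeometry Opposite

namespace Groth.Agent.EtConsLib

open Groth.Agent.FLCLib.Mdl Groth.Agent.EtPtsLib Groth.Agent.S6644 Groth.Agent.S6646 Groth.Agent.S13613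
  Groth.Agent.ARSysLib

variable {Λ : Type (u + 1)} [CommRing Λ] {I : Ideal Λ} {X : Scheme.{u}}

/-- The conditions at one geometric point: images stable from `r` on, kernels deep from `r'` on. -/
def Bound (I : Ideal Λ) (F : ARSys.PS (EtModW.Mod Λ X)) (r r' : ℕ) {Ω : Type u} [Field Ω] [IsSepClosed Ω]
    (ξ : Spec (CommRingCat.of Ω) ⟶ X) : Prop :=
  (∀ s, r ≤ s → ∀ n, LinearMap.range (stk ξ (sm F r n)) ≤ LinearMap.range (stk ξ (sm F s n))) ∧
    ∀ n, ∀ z ∈ LinearMap.range (stk ξ (sm F r (n + 1))), stk ξ (ARSys.tr F (Nat.le_succ n)) z = 0 →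
      z ∈ I ^ (n + 1 - r') • LinearMap.range (stk ξ (sm F r (n + 1)))

variable {F : ARSys.PS (EtModW.Mod Λ X)} {Ω : Type u} [Field Ω] [IsSepClosed Ω] {ξ : Spec (CommRingCat.of Ω) ⟶ X}

theorem range_le_of_imLE {A B W : EtModW.Mod Λ X} {f : A ⟶ W} {g : B ⟶ W} (h : ImLE f g) :
    LinearMap.range (stk ξ f) ≤ LinearMap.range (stk ξ g) := by
  obtain ⟨P, π, hπ, a, ha⟩ := h
  rintro _ ⟨y, rfl⟩
  obtain ⟨p, rfl⟩ := stk_surjective ξ π y
  exact ⟨stk ξ a p, by rw [← stk_comp, ← stk_comp, ha]⟩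

theorem range_sm_eq {r R : ℕ} (hR : r ≤ R)
    (h : ∀ s, r ≤ s → ∀ n, LinearMap.range (stk ξ (sm F r n)) ≤ LinearMap.range (stk ξ (sm F s n))) (n : ℕ) :
    LinearMap.range (stk ξ (sm F R n)) = LinearMap.range (stk ξ (sm F r n)) :=
  le_antisymm (range_le_of_imLE (imLE_shiftMap F hR n)) (h R hR n)

theorem Bound.mono {r r' R R' : ℕ} (h : Bound I F r r' ξ) (hR : r ≤ R) (hR' : r' ≤ R') : Bound I F R R' ξ := by
  refine ⟨fun s hs n => ?_, fun n z hz h0 => ?_⟩
  · rw [range_sm_eq hR h.1, range_sm_eq (hR.trans hs) h.1]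
  · rw [range_sm_eq hR h.1] at hz ⊢
    exact Submodule.smul_mono (Ideal.pow_le_pow_right (by omega)) le_rfl (h.2 n z hz h0)

/-- The conditions do not see the passage to an inverse image. -/
theorem bound_of_pull {T : Scheme.{u}} (g : T ⟶ X) {r r' : ℕ} {Ω : Type u} [Field Ω] [IsSepClosed Ω]
    {ζ : Spec (CommRingCat.of Ω) ⟶ T} (h : Bound I (F ⋙ EtModW.pull Λ g) r r' ζ) :
    Bound I F r r' (ζ ≫ g) := by
  have hr : ∀ {a b : ℕ} (hab : a ≤ b), LinearMap.range (stk ζ (ARSys.tr (F ⋙ EtModW.pull Λ g) hab)) =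
      Submodule.map (unitStalk g ζ (F.obj (op a))).hom (LinearMap.range (stk (ζ ≫ g) (ARSys.tr F hab))) := by
    intro a b hab
    ext z
    constructor
    · rintro ⟨p, rfl⟩
      obtain ⟨y, rfl⟩ := (bijective_unitStalk g ζ (F.obj (op b))).2 p
      exact ⟨_, ⟨y, rfl⟩, (Groth.Agent.S13614.stk_pull g ζ (ARSys.tr F hab) y).symm⟩
    · rintro ⟨_, ⟨y, rfl⟩, rfl⟩
      exact ⟨unitStalk g ζ (F.obj (op b)) y, Groth.Agent.S13614.stk_pull g ζ (ARSys.tr F hab) y⟩
  refine ⟨fun s hs n => ?_, fun n z hz h0 => ?_⟩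
  · have := h.1 s hs n
    rw [hr, hr] at this
    exact (Submodule.map_le_map_iff_of_injective (bijective_unitStalk g ζ (F.obj (op n))).1 _ _).1 this
  · have hz' : unitStalk g ζ (F.obj (op (n + 1))) z ∈ LinearMap.range (stk ζ (sm (F ⋙ EtModW.pull Λ g) r (n + 1))) := by
      rw [hr]
      exact ⟨z, hz, rfl⟩
    have h0' : stk ζ (ARSys.tr (F ⋙ EtModW.pull Λ g) (Nat.le_succ n)) (unitStalk g ζ (F.obj (op (n + 1))) z) = 0 := by
      refine (Groth.Agent.S13614.stk_pull g ζ (ARSys.tr F (Nat.le_succ n)) z).trans ?_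
      rw [h0]
      exact map_zero _
    have := h.2 n _ hz' h0'
    rw [hr, ← Submodule.map_smul''] at this
    obtain ⟨z', hz'', e⟩ := this
    obtain rfl := (bijective_unitStalk g ζ (F.obj (op (n + 1)))).1 e
    exact hz''

variable [IsNoetherianRing Λ]

/-- An `I`-adic system up to translation satisfies the conditions uniformly. -/
theorem exists_bound {Y : ARSys.PS (EtModW.Mod Λ X)} (v : Y ⟶ F) (hk : ARSys.TermKilled I F)
    (hY : ARSys.IsAdic I Y) (hv : ARSys.IsARIso v) :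
    ∃ r r' : ℕ, ∀ (Ω : Type u) [Field Ω] [IsSepClosed Ω] (ξ : Spec (CommRingCat.of Ω) ⟶ X), Bound I F r r' ξ := by
  obtain ⟨r, hr⟩ := (isMLAR_iff F).1 ((isMLAR_iff_exists_strict F).2 ⟨Y, v, isStrict_of_isAdic hY, hv⟩)
  let X' := imSys F r
  let ι := imι F r
  haveI hιm : ∀ k, Mono (ι.app k) := fun k => ((evaluation ℕᵒᵖ (EtModW.Mod Λ X)).obj k).map_mono ι
  have hc : v ≫ cokernel.π (shiftHom F r) = 0 := by
    ext ⟨n⟩ : 2
    haveI := isStrict_of_isAdic hY n (n + r) (Nat.le_add_right n r)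
    have h0 : sm F r n ≫ (cokernel.π (shiftHom F r)).app (op n) = 0 :=
      congrArg (fun t => NatTrans.app t (op n)) (cokernel.condition (shiftHom F r))
    have h1 : sm Y r n ≫ v.app (op n) ≫ (cokernel.π (shiftHom F r)).app (op n) = 0 := by
      rw [reassoc_of% (sm_app v r n), h0, comp_zero]
    exact (cancel_epi (sm Y r n)).1 (h1.trans comp_zero.symm)
  let w : Y ⟶ X' := kernel.lift _ v hc
  have hw : ∀ k, w.app k ≫ ι.app k = v.app k := fun k =>
    congrArg (fun t => NatTrans.app t k) (kernel.lift_ι (cokernel.π (shiftHom F r)) v hc)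
  have hwAR : ARSys.IsARIso w := by
    obtain ⟨⟨a, ha⟩, ⟨b, hb⟩⟩ := (isARIso_iff v).1 hv
    refine (isARIso_iff w).2 ⟨⟨a, fun n P x hx => ha n P x ?_⟩, ⟨b, fun n => imLE_of_comp_mono (ι.app (op n)) ?_⟩⟩
    · rw [← hw]
      exact (Category.assoc _ _ _).symm.trans ((congrArg (· ≫ _) hx).trans zero_comp)
    · rw [hw, sm_app ι b n]
      exact (hb n).comp_left _
  have kX' : ARSys.TermKilled I X' := fun n a ha => by
    rw [← cancel_mono (ι.app (op n)), zero_comp, Linear.smul_comp, Category.id_comp,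
      ← Category.comp_id (ι.app (op n)), ← Linear.comp_smul, hk n a ha, comp_zero]
  obtain ⟨r₁, Q₁, q₁, hq₁, hQ₁⟩ := exists_quot_of_isARAdic (imSys_strict F r hr) ⟨kX', Y, w, hY, hwAR⟩
  obtain ⟨r', -, hr'⟩ := exists_pos_subLEIdeal r₁ q₁ hq₁ hQ₁
  refine ⟨r, r', fun Ω _ _ ξ => ⟨fun s hs n => range_le_of_imLE (hr s hs n), fun n z hz h0 => ?_⟩⟩
  have hrange : LinearMap.range (stk ξ (sm F r (n + 1))) = LinearMap.range (stk ξ (ι.app (op (n + 1)))) :=
    le_antisymm (range_le_of_imLE (imSys_spec F r (n + 1)).1) (range_le_of_imLE (imSys_spec F r (n + 1)).2)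
  rw [hrange] at hz ⊢
  obtain ⟨z, rfl⟩ := hz
  have h1 : stk ξ (ARSys.tr X' (Nat.le_succ n)) z = 0 := by
    refine stk_injective ξ (ι.app (op n)) ?_
    rw [← stk_comp, tr_app ι, stk_comp, h0, map_zero]
  obtain ⟨Q, p, hp⟩ := exists_isQuot I (Or.inl (IsNoetherian.noetherian I)) (n + 1 - r') (X'.obj (op (n + 1)))
  have hkp : kernel.ι (ARSys.tr X' (Nat.le_succ n)) ≫ p = 0 := by
    have h2 : (kernelSubobject (ARSys.tr X' (Nat.le_succ n))).arrow ≫ p = 0 :=
      hr' (n + 1) Q p (homKilled_of_killed hp.1 p)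
    rw [← kernelSubobject_arrow', Category.assoc, h2, comp_zero]
  obtain ⟨y, rfl⟩ := stk_exact ξ (kernel.ι (ARSys.tr X' (Nat.le_succ n))) _ (kernel.condition _)
    (ShortComplex.exact_kernel _) z h1
  have hz' : stk ξ (kernel.ι (ARSys.tr X' (Nat.le_succ n))) y ∈ LinearMap.ker (stk ξ p) := by
    show stk ξ p _ = 0
    rw [← stk_comp, hkp, stk_zero]
  rw [show LinearMap.ker (stk ξ p) = I ^ (n + 1 - r') • ⊤ from
    (Groth.Agent.S13617.quot_elem (isQuot_map ξ (IsNoetherian.noetherian _) hp)).2] at hz'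
  have := Submodule.mem_map_of_mem (f := stk ξ (ι.app (op (n + 1)))) hz'
  rw [Submodule.map_smul'', Submodule.map_top] at this
  exact this

variable [IsNoetherian X]

/-- Conversely, uniform bounds make a system of constructible sheaves adic up to translation. -/
theorem arAdic_of_bound (hc : ∀ n : ℕ, EtModW.IsConstructible Λ (F.obj (op n))) (hk : ARSys.TermKilled I F)
    (r r' : ℕ) (hb : ∀ (Ω : Type u) [Field Ω] [IsSepClosed Ω] (ξ : Spec (CommRingCat.of Ω) ⟶ X), Bound I F r r' ξ) :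
    ∃ (Y : ARSys.PS (EtModW.Mod Λ X)) (v : Y ⟶ F), ARSys.IsAdic I Y ∧
      (∀ n : ℕ, EtModW.IsConstructible Λ (Y.obj (op n))) ∧ ARSys.IsARIso v := by
  have hr : ∀ s, r ≤ s → ∀ n, ImLE (sm F r n) (sm F s n) := fun s hs n => by
    refine imLE_of_cokernel (eq_zero_of_stk_zero _ fun Ω _ _ ξ z => ?_)
    obtain ⟨y, hy⟩ := (hb Ω ξ).1 s hs n ⟨z, rfl⟩
    rw [stk_comp, ← hy, ← stk_comp, cokernel.condition, stk_zero]
  let X' := imSys F r
  let ι := imι F r
  haveI hιm : ∀ k, Mono (ι.app k) := fun k => ((evaluation ℕᵒᵖ (EtModW.Mod Λ X)).obj k).map_mono ι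
  have hX' : ARSys.IsStrict X' := imSys_strict F r hr
  have kX' : ARSys.TermKilled I X' := fun n a ha => by
    rw [← cancel_mono (ι.app (op n)), zero_comp, Linear.smul_comp, Category.id_comp,
      ← Category.comp_id (ι.app (op n)), ← Linear.comp_smul, hk n a ha, comp_zero]
  have hsub : ∀ n, ARSys.SubLEIdeal (I ^ (n - r')) (ARSys.Fker X' n) := by
    intro n W φ hφ
    match n with
    | 0 =>
      have := hφ 1 (by rw [Nat.zero_sub, pow_zero, Ideal.one_eq_top]; trivial)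
      rw [one_smul] at this
      rw [this, comp_zero]
    | n + 1 =>
      obtain ⟨Q, p, hp⟩ := exists_isQuot I (Or.inl (IsNoetherian.noetherian I)) (n + 1 - r') (X'.obj (op (n + 1)))
      obtain ⟨χ, rfl⟩ := isQuot_factor hp φ hφ
      show (kernelSubobject (ARSys.tr X' (Nat.le_succ n))).arrow ≫ p ≫ χ = 0
      have h : kernel.ι (ARSys.tr X' (Nat.le_succ n)) ≫ p = 0 := eq_zero_of_stk_zero _ fun Ω _ _ ξ y => by
        have hrange : LinearMap.range (stk ξ (sm F r (n + 1))) = LinearMap.range (stk ξ (ι.app (op (n + 1)))) :=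
          le_antisymm (range_le_of_imLE (imSys_spec F r (n + 1)).1) (range_le_of_imLE (imSys_spec F r (n + 1)).2)
        let z := stk ξ (kernel.ι (ARSys.tr X' (Nat.le_succ n))) y
        have h0 : stk ξ (ARSys.tr F (Nat.le_succ n)) (stk ξ (ι.app (op (n + 1))) z) = 0 := by
          rw [← stk_comp, ← tr_app ι, stk_comp, ← stk_comp ξ (kernel.ι _), kernel.condition, stk_zero, map_zero]
        have := (hb Ω ξ).2 n _ (hrange ▸ ⟨z, rfl⟩) h0
        rw [hrange, ← Submodule.map_top, ← Submodule.map_smul''] at this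
        obtain ⟨z', hz', e⟩ := this
        obtain rfl : z' = z := stk_injective ξ (ι.app (op (n + 1))) e
        rw [stk_comp]
        show z ∈ LinearMap.ker (stk ξ p)
        rw [show LinearMap.ker (stk ξ p) = I ^ (n + 1 - r') • ⊤ from
          (Groth.Agent.S13617.quot_elem (isQuot_map ξ (IsNoetherian.noetherian _) hp)).2]
        exact hz'
      rw [← kernelSubobject_arrow, Category.assoc, ← Category.assoc (kernel.ι _), h, zero_comp, comp_zero]
  obtain ⟨Y, q, hq, hY⟩ := exists_quot_of_subLEIdeal (Or.inl (IsNoetherian.noetherian I)) hX' r' hsub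
  obtain ⟨-, Y', u, hY', hu⟩ := isARAdic_of_quot hX' kX' r' q hq hY
  refine ⟨Y', u ≫ ι, hY', fun n => ?_, isARIso_comp u ι hu
    ((isARIso_iff _).2 ⟨imι_kerNull F r, imι_cokNull F r⟩)⟩
  obtain ⟨s, w, h₁, -⟩ := exists_inverse u hu
  haveI : Epi (u.app (op (n + s)) ≫ w.app (op n)) := by
    rw [h₁ n]; exact isStrict_of_isAdic hY' _ _ _
  haveI : Epi (w.app (op n)) := epi_of_epi (u.app (op (n + s))) _
  exact isConstructible_of_epi (w.app (op n)) (isConstructible_of_mono (ι.app (op (n + s))) (hc (n + s)))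

end Groth.Agent.EtConsLib
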