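import Groth.Agent.EtConsLib.Induct
import Groth.Agent.AdicStrataLib.Strata
import Mathlib.CategoryTheory.Subobject.NoetherianObject

/-!
Constructible sheaves of modules on a Noetherian scheme are closed under kernels, cokernels,
subobjects and quotients, and are Noetherian objects.
-/

set_option backward.isDefEq.respectTransparency false
set_option backward.isDefEq.respectTransparency.types false
set_option autoImplicit false
set_option maxHeartbeats 1000000

universe u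

open CategoryTheory CategoryTheory.Limits AlgebraicGeometry Opposite TopologicalSpace Topology

namespace Groth.Agent.EtConsLib

open Groth.Agent.FLCLib Groth.Agent.FLCLib.Mdl Groth.Agent.EtPtsLib Groth.Agent.S6644 Groth.Agent.S6646
  Groth.Agent.S13613 Groth.Agent.AdicStrataLib

variable {Λ : Type (u + 1)} [CommRing Λ]

theorem stk_zero {X : Scheme.{u}} {Ω : Type u} [Field Ω] [IsSepClosed Ω] (ξ : Spec (CommRingCat.of Ω) ⟶ X)
    {A B : EtModW.Mod Λ X} (z : (EtModW.stalk Λ ξ).obj A) : stk ξ (0 : A ⟶ B) z = 0 := by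
  show ((EtModW.stalk Λ ξ).map 0).hom z = 0
  rw [Functor.map_zero]
  rfl

theorem eq_zero_of_stk_zero {X : Scheme.{u}} {A B : EtModW.Mod Λ X} (t : A ⟶ B)
    (h : ∀ (Ω : Type u) [Field Ω] [IsSepClosed Ω] (ξ : Spec (CommRingCat.of Ω) ⟶ X) (z), stk ξ t z = 0) :
    t = 0 := by
  haveI : Sheaf.IsLocallySurjective (kernel.ι t) :=
    SitePts.isLocallySurjective (detects X) (kernel.ι t).hom fun x p =>
      stk_exact (geomPt x) (kernel.ι t) t (kernel.condition t) (ShortComplex.exact_kernel t) p (h _ (geomPt x) p)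
  haveI : Epi (kernel.ι t) := inferInstance
  rw [← cancel_epi (kernel.ι t), kernel.condition, comp_zero]

/-- The inverse image of a kernel is the kernel of the inverse image. -/
theorem nonempty_pull_kernel {T X : Scheme.{u}} (g : T ⟶ X) {F G : EtModW.Mod Λ X} (φ : F ⟶ G) :
    Nonempty ((EtModW.pull Λ g).obj (kernel φ) ≅ kernel ((EtModW.pull Λ g).map φ)) := by
  haveI : (EtModW.pull Λ g).IsLeftAdjoint := (Groth.Agent.S13614.adjM g).isLeftAdjoint
  let c : (EtModW.pull Λ g).obj (kernel φ) ⟶ kernel ((EtModW.pull Λ g).map φ) :=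
    kernel.lift _ ((EtModW.pull Λ g).map (kernel.ι φ))
      (by rw [← Functor.map_comp, kernel.condition, Functor.map_zero])
  haveI : IsIso c := by
    refine isIso_of_stalkwise c fun Ω _ _ ζ => (ConcreteCategory.isIso_iff_bijective _).2 ⟨?_, fun z' => ?_⟩
    · intro p p' h
      obtain ⟨y, rfl⟩ := (bijective_unitStalk g ζ (kernel φ)).2 p
      obtain ⟨y', rfl⟩ := (bijective_unitStalk g ζ (kernel φ)).2 p'
      have h' := congrArg (stk ζ (kernel.ι ((EtModW.pull Λ g).map φ))) (show stk ζ c _ = stk ζ c _ from h)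
      rw [← stk_comp, ← stk_comp, kernel.lift_ι, Groth.Agent.S13614.stk_pull, Groth.Agent.S13614.stk_pull] at h'
      exact congrArg _ (stk_injective (ζ ≫ g) (kernel.ι φ) ((bijective_unitStalk g ζ F).1 h'))
    · let q := stk ζ (kernel.ι ((EtModW.pull Λ g).map φ)) z'
      obtain ⟨y, hy⟩ := (bijective_unitStalk g ζ F).2 q
      have h0 : stk (ζ ≫ g) φ y = 0 := by
        refine (bijective_unitStalk g ζ G).1 ((Groth.Agent.S13614.stk_pull g ζ φ y).symm.trans ?_)
        refine ((congrArg (stk ζ ((EtModW.pull Λ g).map φ)) hy).trans ?_).trans (map_zero _).symm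
        rw [← stk_comp, kernel.condition, stk_zero]
      obtain ⟨w, rfl⟩ := stk_exact (ζ ≫ g) (kernel.ι φ) φ (kernel.condition φ) (ShortComplex.exact_kernel φ) y h0
      refine ⟨unitStalk g ζ (kernel φ) w, stk_injective ζ (kernel.ι ((EtModW.pull Λ g).map φ)) ?_⟩
      show stk ζ _ (stk ζ c _) = q
      rw [← stk_comp, kernel.lift_ι, Groth.Agent.S13614.stk_pull]
      exact hy
  exact ⟨asIso c⟩

variable [IsNoetherianRing Λ]

/-- The kernels of a chain of quotients of a sheaf constant near the generic point stabilise on one open set. -/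
theorem exists_spread {T : Scheme.{u}} [IsNoetherian T] {η : T} (hη : ∀ y, η ⤳ y) {G : EtModW.Mod Λ T}
    (h0 : ConstNear G η) {Q : ℕ → EtModW.Mod Λ T} (π : ∀ k, G ⟶ Q k)
    (hmono : ∀ k k', k ≤ k' → ∀ (Ω : Type u) [Field Ω] [IsSepClosed Ω] (ξ : Spec (CommRingCat.of Ω) ⟶ T) (z),
      stk ξ (π k) z = 0 → stk ξ (π k') z = 0) :
    ∃ (V : T.Opens) (N : ℕ), η ∈ V ∧ ∀ x ∈ V,
      (∀ k, N ≤ k → ∀ (Ω : Type u) [Field Ω] [IsSepClosed Ω] (ξ : Spec (CommRingCat.of Ω) ⟶ T),
        ξ default = x → ∀ z, stk ξ (π k) z = 0 → stk ξ (π N) z = 0) ∧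
      ((∀ (Ω : Type u) [Field Ω] [IsSepClosed Ω] (ξ : Spec (CommRingCat.of Ω) ⟶ T),
        Function.Surjective (stk ξ (π N))) → ConstNear (Q N) x) := by
  obtain ⟨U, l, M, hM, a, ha⟩ := h0
  let u₀ : U.left := liftHom (geomPt η) l default
  have hu : U.hom u₀ = η :=
    (congrArg (fun t : Spec (CommRingCat.of (SeparableClosure (T.residueField η))) ⟶ T => t default)
      (liftHom_comp (geomPt η) l)).trans (geomPt_default η)
  obtain ⟨O, huO, hO⟩ := exists_opens_specializes hη U u₀ hu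
  let sec : ∀ k, M →ₗ[Λ] (Q k).obj.obj (op U) := fun k => ((π k).hom.app (op U)).hom ∘ₗ a.hom
  let K : ℕ → Submodule Λ M := fun k =>
    LinearMap.ker (((Scheme.pointSmallEtale (geomPt η)).toPresheafFiber U l (Q k).obj).hom ∘ₗ sec k)
  have germK : ∀ k (Ω : Type u) [Field Ω] [IsSepClosed Ω] (ξ : Spec (CommRingCat.of Ω) ⟶ T)
      (k' : (Scheme.pointSmallEtale ξ).fiber.obj U) (m : M),
      germM ξ (Q k) k' (sec k m) = stk ξ (π k) (germM ξ G k' (a m)) :=
    fun k Ω _ _ ξ k' m => (stk_germ ξ (π k) k' (a m)).symm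
  have hK : Monotone K := fun k k' hkk m hm => by
    show germM (geomPt η) (Q k') l (sec k' m) = 0
    rw [germK]
    refine hmono k k' hkk _ (geomPt η) _ ?_
    rw [← germK]
    exact hm
  obtain ⟨N, hN⟩ := WellFoundedGT.monotone_chain_condition ⟨K, hK⟩
  obtain ⟨S, hS⟩ := IsNoetherian.noetherian (K N)
  have agree0 : ∀ k (Ω : Type u) [Field Ω] [IsSepClosed Ω] (ξ : Spec (CommRingCat.of Ω) ⟶ T)
      (k' : (Scheme.pointSmallEtale ξ).fiber.obj U) (m : M),
      germM ξ (Q k) k' (sec k m) = 0 ↔ liftHom ξ k' default ∈ agree (Q k).obj (sec k m) 0 := by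
    intro k Ω _ _ ξ k' m
    rw [← germ_eq_iff_mem_agree ξ (Q k).obj k' (sec k m) 0]
    exact ⟨fun h => h.trans (map_zero _).symm, fun h => h.trans (map_zero _)⟩
  let W : U.left.Opens := ⟨(O : Set U.left) ∩ ⋂ m ∈ S, agree (Q N).obj (sec N m) 0,
    O.2.inter (isOpen_biInter_finset fun m _ => isOpen_agree _ _ _)⟩
  have huW : u₀ ∈ W := ⟨huO, Set.mem_iInter₂.2 fun m hm =>
    (agree0 N _ _ l m).1 (hS ▸ Submodule.subset_span hm : m ∈ K N)⟩
  have claim : ∀ k, N ≤ k → ∀ (Ω : Type u) [Field Ω] [IsSepClosed Ω] (ξ : Spec (CommRingCat.of Ω) ⟶ T)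
      (k' : (Scheme.pointSmallEtale ξ).fiber.obj U), liftHom ξ k' default ∈ W → ∀ m : M,
      (germM ξ (Q k) k' (sec k m) = 0 ↔ m ∈ K N) := by
    intro k hk Ω _ _ ξ k' hW m
    constructor
    · intro h
      rw [show K N = K k from hN k hk]
      exact (agree0 k _ _ l m).2 ((hO _ hW.1).mem_open (isOpen_agree _ _ _) ((agree0 k Ω ξ k' m).1 h))
    · intro hm
      rw [germK]
      refine hmono N k hk Ω ξ _ ?_
      rw [← germK]
      have hle : K N ≤ LinearMap.ker (((Scheme.pointSmallEtale ξ).toPresheafFiber U k' (Q N).obj).hom ∘ₗ sec N) := by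
        rw [← hS, Submodule.span_le]
        exact fun m' hm' => (agree0 N Ω ξ k' m').2 (Set.mem_iInter₂.1 hW.2 m' hm')
      exact hle hm
  let f : U.left ⟶ T := U.hom
  haveI : AlgebraicGeometry.Etale f := U.prop
  refine ⟨⟨f '' (W : Set U.left), f.isOpenMap _ W.2⟩, N, ⟨u₀, huW, hu⟩, ?_⟩
  rintro _ ⟨w, hw, rfl⟩
  refine ⟨fun k hk Ω _ _ ξ hξ z hz => ?_, fun hsurj => ?_⟩
  · obtain ⟨k', hk'⟩ := Scheme.pointSmallEtaleFiberObjToPreimage_surjective ξ hξ U ⟨w, rfl⟩
    have hpt : liftHom ξ k' default = w := congrArg Subtype.val hk'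
    have hp : liftHom ξ k' default ∈ W := by rw [hpt]; exact hw
    obtain ⟨m, rfl⟩ := (ha Ω ξ k').2 z
    beta_reduce at hz ⊢
    rw [← germK] at hz ⊢
    exact (claim N le_rfl Ω ξ k' hp m).2 ((claim k hk Ω ξ k' hp m).1 hz)
  · obtain ⟨lw, -⟩ := Scheme.pointSmallEtaleFiberObjToPreimage_surjective (geomPt (f w)) (geomPt_default _)
      (openSub U W) ⟨(⟨w, hw⟩ : W.toScheme), rfl⟩
    let g := openIncl U W
    have hin : ∀ (Ω : Type u) [Field Ω] [IsSepClosed Ω] (ξ : Spec (CommRingCat.of Ω) ⟶ T)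
        (k : (Scheme.pointSmallEtale ξ).fiber.obj (openSub U W)),
        liftHom ξ ((Scheme.pointSmallEtale ξ).fiber.map g k) default ∈ W := fun Ω _ _ ξ k => by
      rw [liftHom_map, Scheme.Hom.comp_apply]
      exact (liftHom ξ k default).2
    let θ₀ : M →ₗ[Λ] (Q N).obj.obj (op (openSub U W)) := ((Q N).obj.map g.op).hom ∘ₗ sec N
    have hθ₀ : ∀ (Ω : Type u) [Field Ω] [IsSepClosed Ω] (ξ : Spec (CommRingCat.of Ω) ⟶ T)
        (k : (Scheme.pointSmallEtale ξ).fiber.obj (openSub U W)) (m : M),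
        germM ξ (Q N) k (θ₀ m) = germM ξ (Q N) ((Scheme.pointSmallEtale ξ).fiber.map g k) (sec N m) :=
      fun Ω _ _ ξ k m => germM_map ξ _ g k _
    have hR : K N ≤ LinearMap.ker θ₀ := fun m hm => sect_zero_of_germs _ _ _ fun Ω _ _ ξ k =>
      (hθ₀ Ω ξ k m).trans ((claim N le_rfl Ω ξ _ (hin Ω ξ k) m).2 hm)
    refine ⟨openSub U W, lw, ModuleCat.of Λ (M ⧸ K N), inferInstance,
      ModuleCat.ofHom ((K N).liftQ θ₀ hR), fun Ω _ _ ξ k => ?_⟩
    constructor
    · refine (injective_iff_map_eq_zero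
        (((Scheme.pointSmallEtale ξ).toPresheafFiber (openSub U W) k (Q N).obj).hom ∘ₗ
          (K N).liftQ θ₀ hR)).2 fun x hx => ?_
      obtain ⟨m, rfl⟩ := Submodule.Quotient.mk_surjective _ x
      exact (Submodule.Quotient.mk_eq_zero _).2
        ((claim N le_rfl Ω ξ _ (hin Ω ξ k) m).1 ((hθ₀ Ω ξ k m).symm.trans hx))
    · intro z
      obtain ⟨y, rfl⟩ := hsurj Ω ξ z
      obtain ⟨m, rfl⟩ := (ha Ω ξ ((Scheme.pointSmallEtale ξ).fiber.map g k)).2 y
      exact ⟨Submodule.Quotient.mk m, (hθ₀ Ω ξ k m).trans (germK N Ω ξ _ m)⟩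

variable {X : Scheme.{u}} [IsNoetherian X]

omit [IsNoetherianRing Λ] in
theorem exists_restrict {T : Scheme.{u}} (g : T ⟶ X) [IsImmersion g] {Z : Set X} (O : X.Opens)
    (hr : Set.range g = (O : Set X) ∩ Z) (V : T.Opens) {t : T} (ht : t ∈ V) :
    ∃ O' : X.Opens, Set.range (V.ι ≫ g) = (O' : Set X) ∩ Z ∧ ((O' : Set X) ∩ Z).Nonempty := by
  obtain ⟨O₂, hO₂, hV₂⟩ := g.isEmbedding.isInducing.isOpen_iff.1 V.2
  have hVr : Set.range (V.ι ≫ g) = ((O : Set X) ∩ O₂) ∩ Z := by
    rw [show ⇑(V.ι ≫ g) = ⇑g ∘ ⇑V.ι from funext fun x => Scheme.Hom.comp_apply _ _ _, Set.range_comp,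
      Scheme.Opens.range_ι]
    show g '' (V.1) = _
    rw [← hV₂, Set.image_preimage_eq_inter_range, hr]
    ext x; simp only [Set.mem_inter_iff]; tauto
  exact ⟨⟨(O : Set X) ∩ O₂, O.2.inter hO₂⟩, hVr, ⟨g t, hVr ▸ ⟨(⟨t, ht⟩ : V.toScheme), Scheme.Hom.comp_apply _ _ _⟩⟩⟩

variable {F G : EtModW.Mod Λ X}

omit [IsNoetherianRing Λ] in
theorem isConstructible_of_iso (e : F ≅ G) (h : EtModW.IsConstructible Λ F) : EtModW.IsConstructible Λ G :=
  fun U hU => by
    obtain ⟨n, T, g, h1, h2, h3, h4, h5⟩ := h U hU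
    exact ⟨n, T, g, h1, h2, h3, h4, fun i => isFTLocConst_of_iso ((EtModW.pull Λ (g i)).mapIso e) (h5 i)⟩

theorem isConstructible_kernel_cokernel (φ : F ⟶ G) (hF : EtModW.IsConstructible Λ F)
    (hG : EtModW.IsConstructible Λ G) :
    EtModW.IsConstructible Λ (kernel φ) ∧ EtModW.IsConstructible Λ (cokernel φ) := by
  constructor <;> refine isConstructible_of_generic fun Z hZ hZc => ?_
  all_goals
    obtain ⟨T, g, O, ηT, hg, hr, -, hne, hfl⟩ := exists_stage hZ hZc ![F, G] (fun m => by fin_cases m <;> assumption)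
    refine ⟨T, g, O, hg, hr, hne, ?_⟩
    have hK := isFTLocConst_ker_coker ((EtModW.pull Λ g).map φ) (hfl 0) (hfl 1)
  · obtain ⟨c⟩ := nonempty_pull_kernel g φ
    exact isFTLocConst_of_iso c.symm hK.1
  · haveI : (EtModW.pull Λ g).IsLeftAdjoint := (Groth.Agent.S13614.adjM g).isLeftAdjoint
    haveI : (EtModW.pull Λ g).Additive := (Groth.Agent.S13614.adjM g).left_adjoint_additive
    exact isFTLocConst_of_iso (PreservesCokernel.iso (EtModW.pull Λ g) φ).symm hK.2

theorem isConstructible_of_epi (π : F ⟶ G) [Epi π] (hF : EtModW.IsConstructible Λ F) :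
    EtModW.IsConstructible Λ G := by
  refine isConstructible_of_generic fun Z hZ hZc => ?_
  obtain ⟨T, g, O, ηT, hg, hr, hgen, -, hfl⟩ := exists_stage hZ hZc (fun _ : Fin 1 => F) (fun _ => hF)
  haveI := hg
  haveI := isNoetherian_of_immersion g
  haveI : (EtModW.pull Λ g).IsLeftAdjoint := (Groth.Agent.S13614.adjM g).isLeftAdjoint
  haveI : Epi ((EtModW.pull Λ g).map π) := (EtModW.pull Λ g).map_epi π
  obtain ⟨V, N, hηV, hV⟩ := exists_spread hgen (constNear_of (hfl 0) ηT)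
    (Q := fun _ => (EtModW.pull Λ g).obj G) (fun _ => (EtModW.pull Λ g).map π) (fun _ _ _ _ _ _ _ _ h => h)
  obtain ⟨O', hr', hne'⟩ := exists_restrict g O hr V hηV
  refine ⟨V.toScheme, V.ι ≫ g, O', inferInstance, hr', hne', isFTLocConst_of_iso ((pullCompIsoMod V.ι g).app G) ?_⟩
  exact isFTLocConst_of_constNear fun x => constNear_pull V.ι x ((hV _ x.2).2 fun Ω _ _ ξ => stk_surjective ξ _)

theorem isConstructible_of_mono (i : G ⟶ F) [Mono i] (hF : EtModW.IsConstructible Λ F) :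
    EtModW.IsConstructible Λ G :=
  isConstructible_of_iso
    (show kernel (cokernel.π i) ≅ G from
      (Abelian.monoIsKernelOfCokernel _ (cokernelIsCokernel i)).conePointUniqueUpToIso
        (kernelIsKernel (cokernel.π i)) |>.symm)
    (isConstructible_kernel_cokernel (cokernel.π i) hF (isConstructible_of_epi (cokernel.π i) hF)).1

theorem isNoetherianObject_of_isConstructible (hF : EtModW.IsConstructible Λ F) : IsNoetherianObject F := by
  rw [isNoetherianObject_iff_monotone_chain_condition]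
  intro S
  let π : ∀ k, F ⟶ cokernel (S k).arrow := fun k => cokernel.π (S k).arrow
  have hmono : ∀ k k', k ≤ k' → ∀ (Ω : Type u) [Field Ω] [IsSepClosed Ω] (ξ : Spec (CommRingCat.of Ω) ⟶ X) (z),
      stk ξ (π k) z = 0 → stk ξ (π k') z = 0 := fun k k' h Ω _ _ ξ z hz => by
    have e : π k' = π k ≫ cokernel.desc (S k).arrow (π k') (by
        rw [← Subobject.ofLE_arrow (S.monotone h), Category.assoc, cokernel.condition, comp_zero]) :=
      (cokernel.π_desc _ _ _).symm
    rw [e, stk_comp, hz, map_zero]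
  let P : ∀ {T : Scheme.{u}}, (T ⟶ X) → Prop := fun {T} g => ∃ N, ∀ k, N ≤ k →
    ∀ (Ω : Type u) [Field Ω] [IsSepClosed Ω] (ξ : Spec (CommRingCat.of Ω) ⟶ X), ξ default ∈ Set.range g →
      ∀ z, stk ξ (π k) z = 0 → stk ξ (π N) z = 0
  obtain ⟨ι, hι, T, g, hg, hcov, hP⟩ := exists_pieces_of (P := P) (fun Z hZ hZc => by
    obtain ⟨T, g, O, ηT, hg, hr, hgen, -, hfl⟩ := exists_stage hZ hZc (fun _ : Fin 1 => F) (fun _ => hF)
    haveI := hg
    haveI := isNoetherian_of_immersion g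
    obtain ⟨V, N, hηV, hV⟩ := exists_spread hgen (constNear_of (hfl 0) ηT) (fun k => (EtModW.pull Λ g).map (π k))
      fun k k' h Ω _ _ ζ z hz => by
        obtain ⟨y, rfl⟩ := (bijective_unitStalk g ζ F).2 z
        rw [Groth.Agent.S13614.stk_pull] at hz ⊢
        rw [hmono k k' h Ω _ y ((bijective_unitStalk g ζ _).1 (hz.trans (map_zero _).symm)), map_zero]
    obtain ⟨O', hr', hne'⟩ := exists_restrict g O hr V hηV
    refine ⟨V.toScheme, V.ι ≫ g, O', inferInstance, hr', hne', N, fun k hk Ω _ _ ξ hξ y hy => ?_⟩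
    obtain ⟨x, hx⟩ := hξ
    rw [Scheme.Hom.comp_apply] at hx
    obtain ⟨ζ, rfl⟩ := exists_lift_immersion ξ g ⟨V.ι x, hx⟩
    have hζ : ζ default = V.ι x := g.isEmbedding.injective ((Scheme.Hom.comp_apply _ _ _).symm.trans hx.symm)
    have := (hV _ x.2).1 k hk Ω ζ hζ (unitStalk g ζ F y)
      (by rw [Groth.Agent.S13614.stk_pull, hy, map_zero])
    rw [Groth.Agent.S13614.stk_pull] at this
    exact (bijective_unitStalk g ζ _).1 (this.trans (map_zero _).symm)) ⊤
  choose N hN using hP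
  haveI := Fintype.ofFinite ι
  refine ⟨Finset.univ.sup N, fun m hm => le_antisymm (S.monotone hm) ?_⟩
  have hzero : (S m).arrow ≫ π (Finset.univ.sup N) = 0 := eq_zero_of_stk_zero _ fun Ω _ _ ξ z => by
    obtain ⟨i, hi⟩ := Set.mem_iUnion.1 (hcov (Set.mem_univ (ξ default)))
    rw [stk_comp]
    refine hmono (N i) _ (Finset.le_sup (Finset.mem_univ i)) Ω ξ _ (hN i m ?_ Ω ξ hi _ ?_)
    · exact le_trans (Finset.le_sup (Finset.mem_univ i)) hm
    · rw [← stk_comp, cokernel.condition, stk_zero]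
  exact Subobject.le_of_comm (Abelian.monoLift _ _ hzero) (Abelian.monoLift_comp _ _ _)

end Groth.Agent.EtConsLib
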