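import Groth.Agent.EtConsLib.Closure
import Groth.Prelude.Def_WeakSerre

/-!
Constructible sheaves of modules on an arbitrary scheme form a weak Serre subcategory.
-/

set_option backward.isDefEq.respectTransparency false
set_option backward.isDefEq.respectTransparency.types false
set_option autoImplicit false
set_option maxHeartbeats 1000000

universe u

open CategoryTheory CategoryTheory.Limits AlgebraicGeometry Opposite TopologicalSpace Topology

namespace Groth.Agent.EtConsLib

open Groth.Agent.FLCLib Groth.Agent.FLCLib.Mdl Groth.Agent.EtPtsLib Groth.Agent.S6644 Groth.Agent.S6646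

variable {Λ : Type (u + 1)} [CommRing Λ] {X : Scheme.{u}}

instance isLeftAdjoint_pullMod {T : Scheme.{u}} (g : T ⟶ X) : (EtModW.pull Λ g).IsLeftAdjoint :=
  (Groth.Agent.S13614.adjM g).isLeftAdjoint

instance additive_pullMod {T : Scheme.{u}} (g : T ⟶ X) : (EtModW.pull Λ g).Additive :=
  (Groth.Agent.S13614.adjM g).left_adjoint_additive

theorem isConstructible_of_iso' {F G : EtModW.Mod Λ X} (e : F ≅ G) (h : EtModW.IsConstructible Λ F) :
    EtModW.IsConstructible Λ G :=
  fun U hU => by
    obtain ⟨n, T, g, h1, h2, h3, h4, h5⟩ := h U hU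
    exact ⟨n, T, g, h1, h2, h3, h4, fun i => isFTLocConst_of_iso ((EtModW.pull Λ (g i)).mapIso e) (h5 i)⟩

theorem shortExact_pull_mod {T : Scheme.{u}} (g : T ⟶ X) {S : ShortComplex (EtModW.Mod Λ X)} (hS : S.ShortExact) :
    (S.map (EtModW.pull Λ g)).ShortExact := by
  haveI : (EtModW.pull Λ g).IsLeftAdjoint := (Groth.Agent.S13614.adjM g).isLeftAdjoint
  haveI : (EtModW.pull Λ g).Additive := (Groth.Agent.S13614.adjM g).left_adjoint_additive
  haveI := hS.mono_f
  haveI := hS.epi_g
  haveI : Mono (S.map (EtModW.pull Λ g)).f := by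
    refine Preadditive.mono_of_isZero_kernel _ ?_
    obtain ⟨c⟩ := nonempty_pull_kernel g S.f
    exact IsZero.of_iso ((EtModW.pull Λ g).map_isZero (isZero_kernel_of_mono S.f)) c.symm
  haveI : Epi (S.map (EtModW.pull Λ g)).g := (EtModW.pull Λ g).map_epi S.g
  exact ⟨ShortComplex.exact_of_g_is_cokernel _ (CokernelCofork.mapIsColimit _ hS.gIsCokernel (EtModW.pull Λ g))⟩

/-- Two sheaves adapted to stratifications are adapted to a common one. -/
theorem exists_common_strata {F G : EtModW.Mod Λ X} {S : Set X} (hF : EtModW.AdaptedStrata Λ F S)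
    (hG : EtModW.AdaptedStrata Λ G S) :
    ∃ (n : ℕ) (T : Fin n → Scheme.{u}) (g : ∀ i, T i ⟶ X),
      (∀ i, IsImmersion (g i)) ∧
      (∀ i, Topology.IsConstructible ((Subtype.val : S → X) ⁻¹' Set.range (g i))) ∧
      Pairwise (fun i j => Disjoint (Set.range (g i)) (Set.range (g j))) ∧
      (⋃ i, Set.range (g i)) = S ∧
      ∀ i, EtModW.IsFTLocConst Λ ((EtModW.pull Λ (g i)).obj F) ∧
        EtModW.IsFTLocConst Λ ((EtModW.pull Λ (g i)).obj G) := by
  obtain ⟨n, A, a, ha, hac, had, hau, haF⟩ := hF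
  obtain ⟨m, B, b, hb, hbc, hbd, hbu, hbG⟩ := hG
  haveI := ha
  haveI := hb
  let T : Fin n × Fin m → Scheme.{u} := fun p => pullback (a p.1) (b p.2)
  let g : ∀ p, T p ⟶ X := fun p => pullback.fst (a p.1) (b p.2) ≫ a p.1
  have hr : ∀ p, Set.range (g p) = Set.range (a p.1) ∩ Set.range (b p.2) := fun p => by
    show Set.range (pullback.fst (a p.1) (b p.2) ≫ a p.1) = _
    rw [Scheme.Hom.comp_base, TopCat.coe_comp, Set.range_comp, Scheme.Pullback.range_fst,
      Set.image_preimage_eq_inter_range, Set.inter_comm]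
  let e := (finProdFinEquiv (m := n) (n := m)).symm
  refine ⟨n * m, fun i => T (e i), fun i => g (e i), fun i => inferInstanceAs (IsImmersion (_ ≫ _)), fun i => ?_, ?_, ?_, fun i => ?_⟩
  · show Topology.IsConstructible (_ ⁻¹' Set.range _)
    rw [hr, Set.preimage_inter]
    exact (hac _).inter (hbc _)
  · intro i j hij
    show Disjoint (Set.range _) (Set.range _)
    rw [hr, hr]
    rcases eq_or_ne (e i).1 (e j).1 with h1 | h1
    · refine (hbd fun h2 => hij (e.injective (Prod.ext h1 h2))).mono Set.inter_subset_right Set.inter_subset_right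
    · exact (had h1).mono Set.inter_subset_left Set.inter_subset_left
  · simp only [hr]
    ext x
    refine ⟨fun hx => ?_, fun hx => ?_⟩
    · obtain ⟨i, hi⟩ := Set.mem_iUnion.1 hx
      exact hau ▸ Set.mem_iUnion.2 ⟨_, hi.1⟩
    · obtain ⟨p, hp⟩ := Set.mem_iUnion.1 (hau.symm ▸ hx : x ∈ ⋃ i, Set.range (a i))
      obtain ⟨q, hq⟩ := Set.mem_iUnion.1 (hbu.symm ▸ hx : x ∈ ⋃ i, Set.range (b i))
      exact Set.mem_iUnion.2 ⟨e.symm (p, q), by rw [Equiv.apply_symm_apply]; exact ⟨hp, hq⟩⟩
  · refine ⟨stable_ft F (pullback.fst (a (e i).1) (b (e i).2)) (a (e i).1) inferInstance inferInstance (haF _), ?_⟩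
    show EtModW.IsFTLocConst Λ ((EtModW.pull Λ (pullback.fst (a (e i).1) (b (e i).2) ≫ a (e i).1)).obj G)
    rw [pullback.condition]
    exact stable_ft G (pullback.snd (a (e i).1) (b (e i).2)) (b (e i).2) inferInstance inferInstance (hbG _)

section Closed

variable [IsNoetherianRing Λ] {F G : EtModW.Mod Λ X}

theorem isConstructible_ker_coker_general (φ : F ⟶ G) (hF : EtModW.IsConstructible Λ F)
    (hG : EtModW.IsConstructible Λ G) :
    EtModW.IsConstructible Λ (kernel φ) ∧ EtModW.IsConstructible Λ (cokernel φ) := by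
  constructor <;> intro U hU
  all_goals
    obtain ⟨n, T, g, h1, h2, h3, h4, h5⟩ := exists_common_strata (hF U hU) (hG U hU)
    refine ⟨n, T, g, h1, h2, h3, h4, fun i => ?_⟩
    have hK := isFTLocConst_ker_coker ((EtModW.pull Λ (g i)).map φ) (h5 i).1 (h5 i).2
  · obtain ⟨c⟩ := nonempty_pull_kernel (g i) φ
    exact isFTLocConst_of_iso c.symm hK.1
  · haveI : (EtModW.pull Λ (g i)).IsLeftAdjoint := (Groth.Agent.S13614.adjM (g i)).isLeftAdjoint
    haveI : (EtModW.pull Λ (g i)).Additive := (Groth.Agent.S13614.adjM (g i)).left_adjoint_additive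
    exact isFTLocConst_of_iso (PreservesCokernel.iso (EtModW.pull Λ (g i)) φ).symm hK.2

theorem isConstructible_extension_general (S : ShortComplex (EtModW.Mod Λ X)) (hS : S.ShortExact)
    (h1 : EtModW.IsConstructible Λ S.X₁) (h3 : EtModW.IsConstructible Λ S.X₃) :
    EtModW.IsConstructible Λ S.X₂ := fun U hU => by
  obtain ⟨n, T, g, a1, a2, a3, a4, h5⟩ := exists_common_strata (h1 U hU) (h3 U hU)
  refine ⟨n, T, g, a1, a2, a3, a4, fun i => ?_⟩
  have hS' := shortExact_pull_mod (g i) hS
  haveI := hS'.mono_f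
  haveI := hS'.epi_g
  exact isFTLocConst_extension _ _ (S.map (EtModW.pull Λ (g i))).zero hS'.exact (h5 i).1 (h5 i).2

omit [IsNoetherianRing Λ] in
theorem isFTLocConst_of_isZero {T : Scheme.{u}} {F : EtModW.Mod Λ T} (hF : IsZero F) : EtModW.IsFTLocConst Λ F := by
  refine isFTLocConst_of_constNear fun x => ?_
  obtain ⟨l, -⟩ := Scheme.pointSmallEtaleFiberObjToPreimage_surjective (geomPt x) (geomPt_default _) (EtCoh.top T)
    ⟨x, rfl⟩
  refine ⟨EtCoh.top T, l, ModuleCat.of Λ PUnit.{u + 2}, inferInstanceAs (Module.Finite Λ PUnit.{u + 2}), 0, ?_⟩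
  intro Ω _ _ ξ l'
  haveI : Subsingleton ((EtModW.stalk Λ ξ).obj F) :=
    ModuleCat.subsingleton_of_isZero ((EtModW.stalk Λ ξ).map_isZero hF)
  exact ⟨fun a b _ => Subsingleton.elim (α := PUnit.{u + 2}) a b, fun z => ⟨0, Subsingleton.elim _ _⟩⟩

omit [IsNoetherianRing Λ] in
theorem isConstructible_of_isZero (hF : IsZero F) : EtModW.IsConstructible Λ F := fun U _ => by
  refine ⟨1, fun _ => U.toScheme, fun _ => U.ι, fun _ => inferInstance, fun _ => ?_,
    fun i j h => (h (Subsingleton.elim i j)).elim, by simp [Scheme.Opens.range_ι, Set.iUnion_const], fun _ => ?_⟩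
  · rw [show (Subtype.val : ↥(U : Set X) → X) ⁻¹' Set.range U.ι = Set.univ from
      Set.eq_univ_of_forall fun x => by rw [Set.mem_preimage, Scheme.Opens.range_ι]; exact x.2]
    exact IsConstructible.univ
  · haveI : (EtModW.pull Λ U.ι).IsLeftAdjoint := (Groth.Agent.S13614.adjM U.ι).isLeftAdjoint
    haveI : (EtModW.pull Λ U.ι).Additive := (Groth.Agent.S13614.adjM U.ι).left_adjoint_additive
    exact isFTLocConst_of_isZero ((EtModW.pull Λ U.ι).map_isZero hF)

theorem isWeakSerre_isConstructible :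
    WSerre.IsWeakSerre (fun F : EtModW.Mod Λ X => EtModW.IsConstructible Λ F) := by
  let P : ObjectProperty (EtModW.Mod Λ X) := fun F => EtModW.IsConstructible Λ F
  haveI : P.ContainsZero := ⟨⟨_, Limits.isZero_zero (EtModW.Mod Λ X), isConstructible_of_isZero (Limits.isZero_zero _)⟩⟩
  haveI : P.IsClosedUnderKernels := ⟨by
    rintro K ⟨f, k, hk, hY, hZ⟩
    exact isConstructible_of_iso' ((kernelIsKernel f).conePointUniqueUpToIso hk)
      (isConstructible_ker_coker_general f hY hZ).1⟩
  haveI : P.IsClosedUnderCokernels := ⟨by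
    rintro K ⟨f, k, hk, hY, hZ⟩
    exact isConstructible_of_iso' ((cokernelIsCokernel f).coconePointUniqueUpToIso hk)
      (isConstructible_ker_coker_general f hY hZ).2⟩
  haveI : P.IsClosedUnderExtensions := ⟨fun {S} hS h1 h3 => isConstructible_extension_general S hS h1 h3⟩
  exact {}

end Closed

end Groth.Agent.EtConsLib
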