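import Groth.Agent.S13614

/-!
Stratifying a Noetherian scheme by Noetherian induction, for sheaves of modules on the etale site.
-/

set_option backward.isDefEq.respectTransparency false
set_option backward.isDefEq.respectTransparency.types false
set_option autoImplicit false
set_option maxHeartbeats 1000000

universe u

open CategoryTheory CategoryTheory.Limits AlgebraicGeometry Opposite TopologicalSpace Topology

namespace Groth.Agent.EtConsLib

open Groth.Agent.FLCLib Groth.Agent.FLCLib.Mdl Groth.Agent.EtPtsLib Groth.Agent.S6644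

variable {Λ : Type (u + 1)} [CommRing Λ] {X : Scheme.{u}}

/-- A property of immersed strata passed on to smaller strata. -/
def Stable (P : ∀ {T : Scheme.{u}}, (T ⟶ X) → Prop) : Prop :=
  ∀ {T T' : Scheme.{u}} (h : T' ⟶ T) (g : T ⟶ X), IsImmersion h → IsImmersion g → P g → P (h ≫ g)

variable [IsNoetherian X]

theorem isNoetherian_of_immersion {T : Scheme.{u}} (g : T ⟶ X) [IsImmersion g] : IsNoetherian T := by
  haveI : IsLocallyNoetherian T := LocallyOfFiniteType.isLocallyNoetherian g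
  haveI : NoetherianSpace T := g.isEmbedding.isInducing.noetherianSpace
  exact {}

theorem exists_pieces_of {P : ∀ {T : Scheme.{u}}, (T ⟶ X) → Prop}
    (hgen : ∀ Z : Set X, IsIrreducible Z → IsClosed Z → ∃ (T : Scheme.{u}) (g : T ⟶ X) (O : X.Opens),
      IsImmersion g ∧ Set.range g = (O : Set X) ∩ Z ∧ ((O : Set X) ∩ Z).Nonempty ∧ P g) (C : Closeds X) :
    ∃ (ι : Type u) (_ : Finite ι) (T : ι → Scheme.{u}) (g : ∀ i, T i ⟶ X), (∀ i, IsImmersion (g i)) ∧
      (C : Set X) ⊆ ⋃ i, Set.range (g i) ∧ ∀ i, P (g i) := by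
  induction C using WellFoundedLT.induction with
  | _ C ih => ?_
  by_cases hirr : IsIrreducible (C : Set X)
  · obtain ⟨T, g, O, hg, hr, hne, hP⟩ := hgen C hirr C.2
    let C' : Closeds X := ⟨(C : Set X) \ O, C.2.sdiff O.2⟩
    have hlt : C' < C := lt_of_le_of_ne (fun x hx => hx.1) fun h => by
      obtain ⟨x, hxO, hxC⟩ := hne
      exact ((h ▸ hxC : x ∈ C') : x ∈ (C : Set X) \ O).2 hxO
    obtain ⟨ι, _, T', g', hg', hcov, hP'⟩ := ih C' hlt
    refine ⟨Option ι, inferInstance, fun o => o.elim T T', fun o => match o with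
      | none => g
      | some i => g' i, fun o => match o with
      | none => hg
      | some i => hg' i, fun x hx => ?_, fun o => match o with
      | none => hP
      | some i => hP' i⟩
    by_cases hxO : x ∈ O
    · exact Set.mem_iUnion.2 ⟨none, (hr ▸ ⟨hxO, hx⟩ : x ∈ Set.range g)⟩
    · obtain ⟨i, hi⟩ := Set.mem_iUnion.1 (hcov ⟨hx, hxO⟩)
      exact Set.mem_iUnion.2 ⟨some i, hi⟩
  · obtain rfl | hne := eq_or_ne C ⊥
    · exact ⟨PEmpty, inferInstance, PEmpty.elim, fun i => i.elim, fun i => i.elim, by simp, fun i => i.elim⟩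
    have hnp : ¬ IsPreirreducible (C : Set X) := fun h => hirr
      ⟨Set.nonempty_iff_ne_empty.2 fun e => hne (SetLike.coe_injective e), h⟩
    rw [isPreirreducible_iff_isClosed_union_isClosed] at hnp
    push Not at hnp
    obtain ⟨z₁, z₂, hz₁, hz₂, hsub, h₁, h₂⟩ := hnp
    let C₁ : Closeds X := C ⊓ ⟨z₁, hz₁⟩
    let C₂ : Closeds X := C ⊓ ⟨z₂, hz₂⟩
    have hlt₁ : C₁ < C := lt_of_le_of_ne inf_le_left fun h => h₁ fun x hx => (h ▸ hx : x ∈ C₁).2
    have hlt₂ : C₂ < C := lt_of_le_of_ne inf_le_left fun h => h₂ fun x hx => (h ▸ hx : x ∈ C₂).2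
    obtain ⟨ι₁, _, T₁, g₁, hg₁, hcov₁, hP₁⟩ := ih C₁ hlt₁
    obtain ⟨ι₂, _, T₂, g₂, hg₂, hcov₂, hP₂⟩ := ih C₂ hlt₂
    refine ⟨ι₁ ⊕ ι₂, inferInstance, fun o => Sum.elim T₁ T₂ o, fun o => match o with
      | .inl i => g₁ i
      | .inr i => g₂ i, fun o => match o with
      | .inl i => hg₁ i
      | .inr i => hg₂ i, fun x hx => ?_, fun o => match o with
      | .inl i => hP₁ i
      | .inr i => hP₂ i⟩
    rcases hsub hx with h | h
    · obtain ⟨i, hi⟩ := Set.mem_iUnion.1 (hcov₁ ⟨hx, h⟩)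
      exact Set.mem_iUnion.2 ⟨.inl i, hi⟩
    · obtain ⟨i, hi⟩ := Set.mem_iUnion.1 (hcov₂ ⟨hx, h⟩)
      exact Set.mem_iUnion.2 ⟨.inr i, hi⟩

theorem exists_partition_of {P : ∀ {T : Scheme.{u}}, (T ⟶ X) → Prop} (hP : Stable (fun {T} g => P (T := T) g))
    (hgen : ∀ Z : Set X, IsIrreducible Z → IsClosed Z → ∃ (T : Scheme.{u}) (g : T ⟶ X) (O : X.Opens),
      IsImmersion g ∧ Set.range g = (O : Set X) ∩ Z ∧ ((O : Set X) ∩ Z).Nonempty ∧ P g)
    {S : Set X} (hS : IsLocallyClosed S) :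
    ∃ (m : ℕ) (T : Fin m → Scheme.{u}) (g : ∀ i, T i ⟶ X), (∀ i, IsImmersion (g i)) ∧
      Pairwise (fun i j => Disjoint (Set.range (g i)) (Set.range (g j))) ∧ (⋃ i, Set.range (g i)) = S ∧
      ∀ i, P (g i) := by
  obtain ⟨ι, _, T, g, hg, hcov, hPg⟩ := exists_pieces_of hgen ⊤
  let C : Option ι → Set X
    | none => S
    | some i => Set.range (g i)
  obtain ⟨κ, _, L, hL, hdis, hLcov, hsub⟩ := exists_partition C (by
    rintro (_ | i)
    · exact Groth.Agent.S13614.isConstructible_of_isLocallyClosed hS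
    · haveI := hg i
      exact Groth.Agent.S13614.isConstructible_of_isLocallyClosed (g i).isLocallyClosed_range)
  let κ' := {k : κ // L k ⊆ S ∧ ∃ i, L k ⊆ Set.range (g i)}
  obtain ⟨n, ⟨e⟩⟩ := Finite.exists_equiv_fin κ'
  choose i hi using fun k : κ' => k.2.2
  choose T' h hh hhg hr using fun k : κ' => haveI := hg (i k); exists_immersion_inter (g (i k)) (hL k.1).1
  have hr' : ∀ k : κ', Set.range (h k ≫ g (i k)) = L k.1 := fun k => (hr k).trans (Set.inter_eq_right.2 (hi k))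
  refine ⟨n, fun j => T' (e.symm j), fun j => h (e.symm j) ≫ g (i (e.symm j)), fun j => hhg _, ?_, ?_,
    fun j => hP _ _ (hh _) (hg _) (hPg _)⟩
  · intro a b hab
    show Disjoint (Set.range _) (Set.range _)
    rw [hr', hr']
    exact hdis fun he => hab (e.symm.injective (Subtype.ext he))
  · simp only [hr']
    refine Set.Subset.antisymm (Set.iUnion_subset fun j => (e.symm j).2.1) fun x hx => ?_
    obtain ⟨k, hk⟩ := hLcov x
    obtain ⟨a, ha⟩ := Set.mem_iUnion.1 (hcov (Set.mem_univ x))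
    have h1 : L k ⊆ S := (hsub k none).resolve_right fun hd => Set.disjoint_left.1 hd hk hx
    have h2 : L k ⊆ Set.range (g a) := (hsub k (some a)).resolve_right fun hd => Set.disjoint_left.1 hd hk ha
    refine Set.mem_iUnion.2 ⟨e ⟨k, h1, a, h2⟩, ?_⟩
    rw [e.symm_apply_apply]
    exact hk

omit [AlgebraicGeometry.IsNoetherian X] in
theorem stable_ft (F : EtModW.Mod Λ X) :
    Stable fun {T : Scheme.{u}} (g : T ⟶ X) => EtModW.IsFTLocConst Λ ((EtModW.pull Λ g).obj F) :=
  fun h g _ _ hg => isFTLocConst_of_iso ((pullCompIsoMod h g).app F) (Mdl.isFTLocConst_pull h hg)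

/-- A sheaf that is locally constant generically on every irreducible closed subset is constructible. -/
theorem isConstructible_of_generic {F : EtModW.Mod Λ X}
    (hgen : ∀ Z : Set X, IsIrreducible Z → IsClosed Z → ∃ (T : Scheme.{u}) (g : T ⟶ X) (O : X.Opens),
      IsImmersion g ∧ Set.range g = (O : Set X) ∩ Z ∧ ((O : Set X) ∩ Z).Nonempty ∧
        EtModW.IsFTLocConst Λ ((EtModW.pull Λ g).obj F)) :
    EtModW.IsConstructible Λ F := fun U hU => by
  obtain ⟨m, T, g, hg, hdis, hcov, hP⟩ := exists_partition_of (stable_ft F) hgen U.2.isLocallyClosed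
  refine ⟨m, T, g, hg, fun i => ?_, hdis, hcov, hP⟩
  haveI := hg i
  haveI : NoetherianSpace ↥(U : Set X) := NoetherianSpace.set _
  exact Groth.Agent.S13614.isConstructible_of_isLocallyClosed
    ((g i).isLocallyClosed_range.preimage continuous_subtype_val)

/-- A constructible sheaf is locally constant on an open piece of an irreducible stratum. -/
theorem exists_shrink {T : Scheme.{u}} [IsNoetherian T] (η : T) (hη : ∀ y, η ⤳ y) (g : T ⟶ X)
    {F : EtModW.Mod Λ X} (hF : EtModW.IsConstructible Λ F) :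
    ∃ (T' : Scheme.{u}) (h : T' ⟶ T) (_ : IsImmersion h) (η' : T'), h η' = η ∧ IsOpen (Set.range h) ∧
      EtModW.IsFTLocConst Λ ((EtModW.pull Λ (h ≫ g)).obj F) := by
  obtain ⟨A, hA, hηA, -⟩ := exists_isAffineOpen_mem_and_subset (show η ∈ (⊤ : T.Opens) from trivial)
  obtain ⟨m, S, s, hs, -, -, hu, hfl⟩ := Groth.Agent.S13614.pull_isConstructible g hF A hA
  obtain ⟨i, hi⟩ := Set.mem_iUnion.1 (hu.symm ▸ hηA : η ∈ ⋃ i, Set.range (s i))
  haveI := hs i
  obtain ⟨O, C, hO, hC, hr⟩ := (s i).isLocallyClosed_range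
  obtain ⟨η', hη'⟩ := hi
  refine ⟨S i, s i, inferInstance, η', hη', ?_, isFTLocConst_of_iso ((pullCompIsoMod (s i) g).app F) (hfl i)⟩
  have hηC : η ∈ C := (hr ▸ ⟨η', hη'⟩ : η ∈ O ∩ C).2
  rw [hr, Set.eq_univ_of_forall (fun y => (hη y).mem_closed hC hηC), Set.inter_univ]
  exact hO

/-- Finitely many constructible sheaves are locally constant on one open piece of a closed subset. -/
theorem exists_stage {Z : Set X} (hZ : IsIrreducible Z) (hZc : IsClosed Z) {N : ℕ}
    (A : Fin N → EtModW.Mod Λ X) (hA : ∀ m, EtModW.IsConstructible Λ (A m)) :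
    ∃ (T : Scheme.{u}) (g : T ⟶ X) (O : X.Opens) (ηT : T), IsImmersion g ∧ Set.range g = (O : Set X) ∩ Z ∧
      (∀ y, ηT ⤳ y) ∧ ((O : Set X) ∩ Z).Nonempty ∧ ∀ m, EtModW.IsFTLocConst Λ ((EtModW.pull Λ g).obj (A m)) := by
  induction N with
  | zero =>
    obtain ⟨η, hη⟩ := QuasiSober.sober hZ hZc
    obtain ⟨T, h, _, hg, hr⟩ := exists_immersion_inter (𝟙 X) hZc.isLocallyClosed
    haveI := hg
    have hr' : Set.range (h ≫ 𝟙 X) = Z := hr.trans (by simp)
    obtain ⟨ηT, hηT⟩ : η ∈ Set.range (h ≫ 𝟙 X) := hr'.symm ▸ hη.mem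
    refine ⟨T, h ≫ 𝟙 X, ⊤, ηT, hg, by rw [hr']; simp, fun y => ?_, ⟨η, trivial, hη.mem⟩, fun m => m.elim0⟩
    refine (h ≫ 𝟙 X).isEmbedding.isInducing.specializes_iff.1 ?_
    rw [hηT]
    exact hη.specializes (hr' ▸ Set.mem_range_self y)
  | succ N ih =>
    obtain ⟨T, g, O, ηT, hg, hr, hgen, -, hfl⟩ := ih (fun m => A m.castSucc) fun m => hA _
    haveI := isNoetherian_of_immersion g
    obtain ⟨T', h, hh, η', hηh, hopen, hflN⟩ := exists_shrink ηT hgen g (hA (Fin.last N))
    obtain ⟨O', hO', hpre⟩ := g.isEmbedding.isInducing.isOpen_iff.1 hopen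
    have hrange : Set.range (h ≫ g) = ((O : Set X) ∩ O') ∩ Z := by
      rw [show ⇑(h ≫ g) = ⇑g ∘ ⇑h from funext fun x => Scheme.Hom.comp_apply _ _ _, Set.range_comp, ← hpre,
        Set.image_preimage_eq_inter_range, hr]
      ext x; simp only [Set.mem_inter_iff]; tauto
    refine ⟨T', h ≫ g, ⟨(O : Set X) ∩ O', O.2.inter hO'⟩, η', inferInstance, hrange, fun y => ?_,
      ⟨(h ≫ g) η', hrange ▸ Set.mem_range_self η'⟩, fun m => ?_⟩
    · exact h.isEmbedding.isInducing.specializes_iff.1 (hηh ▸ hgen _)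
    · induction m using Fin.lastCases with
      | last => exact hflN
      | cast m => exact stable_ft _ h g hh hg (hfl m)

end Groth.Agent.EtConsLib
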